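import Mathlib
import Cfsg.Agent.Lib.Helper40.HPMULT
import Cfsg.Agent.Lib.Helper85.HPLAN1

/-!
# S4504 (helper22 project), piece HP-STAR-MULT (helper40): the verbatim skeleton statement

`hp_mult` = `mult_core` fed with piece LAN1 (`Cfsg.Agent.Lib.Helper85.HPT.hp_lan1`).
-/

set_option autoImplicit false

namespace Cfsg.Agent.Lib.Helper40.HPT

open Cfsg Cfsg.Agent.Lib.Helper22.BFD Cfsg.Agent.Lib.Helper22.HPD
open scoped ComplexConjugate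

universe u

/-- PIECE MULT: `Pi1` is multiplicity free -/
theorem hp_mult {G : Type u} [Group G] [Fintype G] (p : ℕ) [Fact p.Prime] (hp5 : 5 ≤ p)
    (hirr : ∀ (H : Type u) [Group H] [Finite H], p ∣ Nat.card H → ¬ p ^ 2 ∣ Nat.card H →
      (∀ L : Subgroup H, L.Normal → Nat.card L ≠ p) → ∀ ψ : H → ℂ, IsCharacter H ψ →
      (∀ g : H, ψ g = ψ 1 → g = 1) → 2 * charDegree ψ + 1 = p → IsIrrCharacter H ψ)
    (hdiv : p ∣ Nat.card G) (hsq : ¬ p ^ 2 ∣ Nat.card G)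
    (hnn : ∀ H : Subgroup G, H.Normal → Nat.card H ≠ p)
    (χ : IrrCharacter G) (hfaith : ∀ g : G, χ.1 g = χ.1 1 → g = 1)
    (e : ℕ) (he : charDegree χ.1 = e) (hdeg : 2 * e + 1 = p) (z : G) (ζ : ℂ)
    (hHP : HP p ζ z χ.1) (k : ℕ) (hk : GalExp p G k) (φ : IrrCharacter G)
    (hφ1 : φ.1 ≠ fun _ => 1) (hm : classInner (Pi1 χ.1) φ.1 ≠ 0) :
    classInner (Pi1 χ.1) φ.1 = 1 :=
  mult_core p hp5 hdiv hnn χ e he hdeg z ζ hHP k hk φ
    (Cfsg.Agent.Lib.Helper85.HPT.hp_lan1 p hirr hdiv hsq hnn χ hfaith e he hdeg z ζ hHP k hk φ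
      hφ1 hm) hm

end Cfsg.Agent.Lib.Helper40.HPT
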