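import Mathlib
import Cfsg.Agent.Lib.Helper18.SLMDefs
import Cfsg.Agent.Lib.Helper31.SLME4

/-!
# Project SLM (S2332, helper18), piece E3 (backup slot E3b, helper40)

For `k = 3` and `|F| ≥ 4`, a transvection of the Levi factor fixing a non-zero weight `l` is a
commutator of two elements of `SL_3` fixing `l`, hence acts trivially on the (one-dimensional)
weight space.
-/

set_option autoImplicit false
set_option linter.unusedSectionVars false
set_option linter.unusedVariables false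

namespace Cfsg.Agent.Lib.Helper18.SLM

open Matrix

universe u

variable {F : Type u} [Field F] [Fintype F]

/-- a functional vanishing at `l` with value one at a vector outside the line of `l` -/
theorem e3b_dual {k : ℕ} (l b : Fin k → F)
    (hb : b ∉ Submodule.span F ({l} : Set (Fin k → F))) :
    ∃ α : Fin k → F, α ⬝ᵥ l = 0 ∧ α ⬝ᵥ b = 1 := by
  classical
  obtain ⟨f, hfb, hf⟩ := Submodule.exists_dual_map_eq_bot_of_notMem hb inferInstance
  let α₀ : Fin k → F := fun i => f (Pi.single i 1)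
  have hα₀ : ∀ x : Fin k → F, α₀ ⬝ᵥ x = f x := by
    intro x
    rw [LinearMap.pi_apply_eq_sum_univ f x]
    unfold dotProduct
    apply Finset.sum_congr rfl
    intro i _
    rw [smul_eq_mul, mul_comm]
    show x i * f (Pi.single i 1) = x i * f (fun j => if i = j then 1 else 0)
    congr 2
    ext j
    simp [Pi.single_apply, eq_comm]
  have hvan : ∀ x ∈ Submodule.span F ({l} : Set (Fin k → F)), f x = 0 := by
    intro x hx
    have h : f x ∈ (Submodule.span F ({l} : Set (Fin k → F))).map f :=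
      Submodule.mem_map_of_mem hx
    rw [hf, Submodule.mem_bot] at h
    exact h
  refine ⟨(f b)⁻¹ • α₀, ?_, ?_⟩
  · rw [smul_dotProduct, hα₀, hvan l (Submodule.subset_span (by simp)), smul_zero]
  · rw [smul_dotProduct, hα₀, smul_eq_mul, inv_mul_cancel₀ hfb]

/-- the kernel of a functional on `F³` is not contained in a line -/
theorem e3b_exists_b (φ l : Fin 3 → F) :
    ∃ b : Fin 3 → F, φ ⬝ᵥ b = 0 ∧ b ∉ Submodule.span F ({l} : Set (Fin 3 → F)) := by
  classical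
  let fφ : (Fin 3 → F) →ₗ[F] F :=
    { toFun := fun x => φ ⬝ᵥ x
      map_add' := fun x y => dotProduct_add φ x y
      map_smul' := fun c x => by simp [dotProduct_smul] }
  have hker : 3 ≤ Module.finrank F (LinearMap.ker fφ) + 1 := by
    have h := LinearMap.finrank_range_add_finrank_ker fφ
    rw [Module.finrank_fin_fun] at h
    have h1 : Module.finrank F (LinearMap.range fφ) ≤ 1 := by
      have h2 := Submodule.finrank_le (LinearMap.range fφ)
      rw [Module.finrank_self] at h2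
      exact h2
    omega
  have hspan : Module.finrank F (Submodule.span F ({l} : Set (Fin 3 → F))) ≤ 1 := by
    have h := finrank_span_finset_le_card (R := F) ({l} : Finset (Fin 3 → F))
    have h3 : (({l} : Finset (Fin 3 → F)) : Set (Fin 3 → F)) = {l} := by simp
    rw [Set.finrank, h3, Finset.card_singleton] at h
    exact h
  have hnot : ¬ LinearMap.ker fφ ≤ Submodule.span F ({l} : Set (Fin 3 → F)) := by
    intro hle
    have h := Submodule.finrank_mono hle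
    omega
  obtain ⟨b, hb, hbn⟩ := SetLike.not_le_iff_exists.1 hnot
  exact ⟨b, LinearMap.mem_ker.1 hb, hbn⟩

/-- a field with at least four elements has a non-zero element whose square is not one -/
theorem e3b_exists_t (hq : 4 ≤ Fintype.card F) : ∃ t : F, t ≠ 0 ∧ t ^ 2 ≠ 1 := by
  classical
  by_contra hcon
  push Not at hcon
  have hsub : (Finset.univ : Finset F) ⊆ {0, 1, -1} := by
    intro t _
    by_cases h0 : t = 0
    · simp [h0]
    · have h1 := hcon t h0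
      rw [sq] at h1
      rcases mul_self_eq_one_iff.1 h1 with h2 | h2
      · simp [h2]
      · simp [h2]
  have h1 := Finset.card_le_card hsub
  have h3 : ({0, 1, -1} : Finset F).card ≤ 3 := Finset.card_le_three
  rw [Finset.card_univ] at h1
  omega

/-- the ring identity behind the commutator formula of the second case -/
theorem e3b_ring {R : Type*} [Ring R] [Algebra F R] (D₁ D₂ N : R) (t : F) (ht : t ≠ 0)
    (hD2N : D₂ * N = N) (hND2 : N * D₂ = t⁻¹ • N) (hD1N : D₁ * N = t • N) (hND1 : N * D₁ = N)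
    (hNN : N * N = 0) :
    D₁ * D₂ * (1 + N) = (1 + (t ^ 2 - 1) • N) * (1 + N) * (D₁ * D₂) := by
  have h1 : D₁ * D₂ * (1 + N) = D₁ * D₂ + t • N := by
    rw [mul_add, mul_one, mul_assoc, hD2N, hD1N]
  have h2 : (1 + (t ^ 2 - 1) • N) * (1 + N) = 1 + t ^ 2 • N := by
    have h : (1 + (t ^ 2 - 1) • N) * (1 + N) = 1 + (N + (t ^ 2 - 1) • N) := by
      rw [add_mul, one_mul, smul_mul_assoc, mul_add, mul_one, hNN, add_zero, add_assoc]
    rw [h]
    congr 1
    calc N + (t ^ 2 - 1) • N = (1 : F) • N + (t ^ 2 - 1) • N := by rw [one_smul]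
      _ = t ^ 2 • N := by
        rw [← add_smul]
        congr 1
        ring
  have h3 : (1 + t ^ 2 • N) * (D₁ * D₂) = D₁ * D₂ + t • N := by
    have e : t ^ 2 * t⁻¹ = t := by
      field_simp
    rw [add_mul, one_mul, smul_mul_assoc, ← mul_assoc, hND1, hND2, smul_smul, e]
  rw [h1, h2, h3]

/-- a transvection of `SL_3` fixing `l` is a commutator of two elements fixing `l` -/
theorem e3b_comm_exists (hq : 4 ≤ Fintype.card F) (l : Fin 3 → F)
    (g : Matrix.SpecialLinearGroup (Fin 3) F) (hg : IsTv g)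
    (hgl : (g : Matrix (Fin 3) (Fin 3) F) *ᵥ l = l) :
    ∃ g₁ g₂ : Matrix.SpecialLinearGroup (Fin 3) F,
      (g₁ : Matrix (Fin 3) (Fin 3) F) *ᵥ l = l ∧ (g₂ : Matrix (Fin 3) (Fin 3) F) *ᵥ l = l ∧
      g = g₁ * g₂ * g₁⁻¹ * g₂⁻¹ := by
  classical
  obtain ⟨a, φ, hφa, hgm⟩ := hg
  have htriv : g = 1 → ∃ g₁ g₂ : Matrix.SpecialLinearGroup (Fin 3) F,
      (g₁ : Matrix (Fin 3) (Fin 3) F) *ᵥ l = l ∧ (g₂ : Matrix (Fin 3) (Fin 3) F) *ᵥ l = l ∧
      g = g₁ * g₂ * g₁⁻¹ * g₂⁻¹ := by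
    intro hg1
    refine ⟨1, 1, ?_, ?_, ?_⟩
    · rw [Matrix.SpecialLinearGroup.coe_one, Matrix.one_mulVec]
    · rw [Matrix.SpecialLinearGroup.coe_one, Matrix.one_mulVec]
    · rw [hg1]
      group
  by_cases ha : a = 0
  · apply htriv
    apply Subtype.ext
    rw [hgm, ha, zero_vecMulVec, add_zero]
    rfl
  by_cases hφ0 : φ = 0
  · apply htriv
    apply Subtype.ext
    rw [hgm, hφ0, vecMulVec_zero, add_zero]
    rfl
  have hφl : φ ⬝ᵥ l = 0 := by
    rw [hgm, e4_mulVec] at hgl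
    have h1 : (φ ⬝ᵥ l) • a = 0 := by
      have h2 := congrArg (fun z => z - l) hgl
      simpa using h2
    rcases smul_eq_zero.1 h1 with h | h
    · exact h
    · exact absurd h ha
  by_cases hal : a ∈ Submodule.span F ({l} : Set (Fin 3 → F))
  · -- first case: `a` on the line of `l`
    obtain ⟨b, hφb, hb⟩ := e3b_exists_b φ l
    obtain ⟨α, hαl, hαb⟩ := e3b_dual l b hb
    have hαa : α ⬝ᵥ a = 0 := by
      obtain ⟨s, hs⟩ := Submodule.mem_span_singleton.1 hal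
      rw [← hs, dotProduct_smul, hαl, smul_zero]
    obtain ⟨g₁, hg₁⟩ : ∃ g₁ : Matrix.SpecialLinearGroup (Fin 3) F,
        (g₁ : Matrix (Fin 3) (Fin 3) F) = 1 + vecMulVec a α := ⟨⟨_, e4_det a α hαa⟩, rfl⟩
    obtain ⟨g₂, hg₂⟩ : ∃ g₂ : Matrix.SpecialLinearGroup (Fin 3) F,
        (g₂ : Matrix (Fin 3) (Fin 3) F) = 1 + vecMulVec b φ := ⟨⟨_, e4_det b φ hφb⟩, rfl⟩
    refine ⟨g₁, g₂, ?_, ?_, ?_⟩
    · rw [hg₁, e4_mulVec, hαl, zero_smul, add_zero]
    · rw [hg₂, e4_mulVec, hφl, zero_smul, add_zero]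
    · have hcomm : g₁ * g₂ = g * g₂ * g₁ := by
        apply Subtype.ext
        rw [Matrix.SpecialLinearGroup.coe_mul, Matrix.SpecialLinearGroup.coe_mul,
          Matrix.SpecialLinearGroup.coe_mul, hg₁, hg₂, hgm]
        have hAB : vecMulVec a α * vecMulVec b φ = vecMulVec a φ := by
          rw [vecMulVec_mul_vecMulVec, hαb, one_smul]
        have hBA : vecMulVec b φ * vecMulVec a α = 0 := by
          rw [vecMulVec_mul_vecMulVec, hφa, zero_smul, vecMulVec_zero]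
        have hBB : vecMulVec b φ * vecMulVec b φ = 0 := by
          rw [vecMulVec_mul_vecMulVec, hφb, zero_smul, vecMulVec_zero]
        rw [← hAB]
        exact e4_ring _ _ hBA hBB
      rw [hcomm]
      group
  · -- second case: `a` and `l` independent
    obtain ⟨t, ht0, ht2⟩ := e3b_exists_t hq
    have hs : t ^ 2 - 1 ≠ 0 := sub_ne_zero.2 ht2
    obtain ⟨α', hα'l, hα'a⟩ := e3b_dual l a hal
    obtain ⟨i, hi⟩ : ∃ i, φ i ≠ 0 := by
      by_contra hcon
      push Not at hcon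
      exact hφ0 (funext hcon)
    obtain ⟨φ', hφ'⟩ : ∃ φ' : Fin 3 → F, φ' = (t ^ 2 - 1)⁻¹ • φ := ⟨_, rfl⟩
    have hφ'a : φ' ⬝ᵥ a = 0 := by rw [hφ', smul_dotProduct, hφa, smul_zero]
    have hφ'l : φ' ⬝ᵥ l = 0 := by rw [hφ', smul_dotProduct, hφl, smul_zero]
    have hφ'i : φ' i ≠ 0 := by
      rw [hφ', Pi.smul_apply, smul_eq_mul]
      exact mul_ne_zero (inv_ne_zero hs) hi
    obtain ⟨α₁, hα₁⟩ : ∃ α₁ : Fin 3 → F, α₁ = (t - 1) • α' := ⟨_, rfl⟩
    have hα₁a : α₁ ⬝ᵥ a = t - 1 := by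
      rw [hα₁, smul_dotProduct, hα'a, smul_eq_mul, mul_one]
    have hα₁l : α₁ ⬝ᵥ l = 0 := by rw [hα₁, smul_dotProduct, hα'l, smul_zero]
    obtain ⟨c₂, hc₂d⟩ : ∃ c₂ : Fin 3 → F, c₂ = ((t⁻¹ - 1) * (φ' i)⁻¹) • Pi.single i 1 :=
      ⟨_, rfl⟩
    have hc₂ : φ' ⬝ᵥ c₂ = t⁻¹ - 1 := by
      rw [hc₂d, dotProduct_smul, dotProduct_single, mul_one, smul_eq_mul, mul_assoc,
        inv_mul_cancel₀ hφ'i, mul_one]
    obtain ⟨N, hN⟩ : ∃ N : Matrix (Fin 3) (Fin 3) F, N = vecMulVec a φ' := ⟨_, rfl⟩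
    obtain ⟨D₁, hD₁⟩ : ∃ D₁ : Matrix (Fin 3) (Fin 3) F, D₁ = 1 + vecMulVec a α₁ := ⟨_, rfl⟩
    obtain ⟨D₂, hD₂⟩ : ∃ D₂ : Matrix (Fin 3) (Fin 3) F, D₂ = 1 + vecMulVec c₂ φ' := ⟨_, rfl⟩
    have hdet1 : D₁.det = t := by
      rw [hD₁, vecMulVec_eq Unit, det_one_add_replicateCol_mul_replicateRow, hα₁a]
      ring
    have hdet2 : D₂.det = t⁻¹ := by
      rw [hD₂, vecMulVec_eq Unit, det_one_add_replicateCol_mul_replicateRow, hc₂]
      ring
    have hdet : (D₁ * D₂).det = 1 := by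
      rw [Matrix.det_mul, hdet1, hdet2, mul_inv_cancel₀ ht0]
    have hdetN : (1 + N).det = 1 := by
      rw [hN]
      exact e4_det a φ' hφ'a
    have hNN : N * N = 0 := by
      rw [hN, vecMulVec_mul_vecMulVec, hφ'a, zero_smul, vecMulVec_zero]
    have hD1N : D₁ * N = t • N := by
      rw [hD₁, hN, add_mul, one_mul, vecMulVec_mul_vecMulVec, hα₁a, vecMulVec_smul, sub_smul,
        one_smul]
      abel
    have hND1 : N * D₁ = N := by
      rw [hD₁, hN, mul_add, mul_one, vecMulVec_mul_vecMulVec, hφ'a, zero_smul, vecMulVec_zero,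
        add_zero]
    have hD2N : D₂ * N = N := by
      rw [hD₂, hN, add_mul, one_mul, vecMulVec_mul_vecMulVec, hφ'a, zero_smul, vecMulVec_zero,
        add_zero]
    have hND2 : N * D₂ = t⁻¹ • N := by
      rw [hD₂, hN, mul_add, mul_one, vecMulVec_mul_vecMulVec, hc₂, vecMulVec_smul, sub_smul,
        one_smul]
      abel
    have hgN : (g : Matrix (Fin 3) (Fin 3) F) = 1 + (t ^ 2 - 1) • N := by
      rw [hgm, hN, hφ', vecMulVec_smul, smul_smul, mul_inv_cancel₀ hs, one_smul]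
    obtain ⟨g₁, hg₁⟩ : ∃ g₁ : Matrix.SpecialLinearGroup (Fin 3) F,
        (g₁ : Matrix (Fin 3) (Fin 3) F) = D₁ * D₂ := ⟨⟨D₁ * D₂, hdet⟩, rfl⟩
    obtain ⟨g₂, hg₂⟩ : ∃ g₂ : Matrix.SpecialLinearGroup (Fin 3) F,
        (g₂ : Matrix (Fin 3) (Fin 3) F) = 1 + N := ⟨⟨1 + N, hdetN⟩, rfl⟩
    refine ⟨g₁, g₂, ?_, ?_, ?_⟩
    · rw [hg₁, ← Matrix.mulVec_mulVec, hD₂, e4_mulVec, hφ'l, zero_smul, add_zero, hD₁,
        e4_mulVec, hα₁l, zero_smul, add_zero]
    · rw [hg₂, hN, e4_mulVec, hφ'l, zero_smul, add_zero]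
    · have hcomm : g₁ * g₂ = g * g₂ * g₁ := by
        apply Subtype.ext
        rw [Matrix.SpecialLinearGroup.coe_mul, Matrix.SpecialLinearGroup.coe_mul,
          Matrix.SpecialLinearGroup.coe_mul, hg₁, hg₂, hgN]
        exact e3b_ring D₁ D₂ N t ht0 hD2N hND2 hD1N hND1 hNN
      rw [hcomm]
      group

-- piece E3
theorem ep_of_m1_3 {V : Type*} [AddCommGroup V] [Module ℂ V] (ψ : AddChar F ℂ)
    (hq : 4 ≤ Fintype.card F) (ρ : Representation ℂ (Matrix.SpecialLinearGroup (Fin 4) F) V)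
    (hM : M1 ψ ρ)
    (hmap : ∀ (g : Matrix.SpecialLinearGroup (Fin 3) F) (l : Fin 3 → F), ∀ v ∈ wt ψ ρ l,
      ρ (lev g) v ∈ wt ψ ρ ((g : Matrix (Fin 3) (Fin 3) F) *ᵥ l)) :
    EP ψ ρ := by
  intro l hl g hg hgl v hv
  obtain ⟨g₁, g₂, hg₁l, hg₂l, hgeq⟩ := e3b_comm_exists hq l g hg hgl
  have hL := hM l hl
  have h1 : ∀ w ∈ wt ψ ρ l, ρ (lev g₁) w ∈ wt ψ ρ l := by
    intro w hw
    have h := hmap g₁ l w hw
    rw [hg₁l] at h
    exact h
  have h2 : ∀ w ∈ wt ψ ρ l, ρ (lev g₂) w ∈ wt ψ ρ l := by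
    intro w hw
    have h := hmap g₂ l w hw
    rw [hg₂l] at h
    exact h
  have h3 := e4_comm ρ (wt ψ ρ l) hL (lev g₁) (lev g₂) h1 h2 v hv
  have hlev : lev g = lev g₁ * lev g₂ * (lev g₁)⁻¹ * (lev g₂)⁻¹ := by
    rw [hgeq, map_mul, map_mul, map_mul, map_inv, map_inv]
  rw [hlev]
  exact h3

end Cfsg.Agent.Lib.Helper18.SLM
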