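import Mathlib
import Cfsg.Agent.Lib.Helper50.SU4Q3Def
import Cfsg.Agent.Lib.Helper71.Asch5

/-! Project SU4 (helper50), piece Q3NOR: the unimodular unitary monomial group of the standard
frame normalises the Pauli group (`q = 3`). -/

set_option autoImplicit false

namespace Cfsg.Agent.Lib.Helper40.SU4Q3NOR

open Matrix Cfsg.Geo Cfsg.Agent.Lib.Helper71.Asch Cfsg.Agent.Lib.Helper50.SU4Q3Def

section Mono

variable {F : Type*} [Field F]

/-- The monomial matrix `e_j ↦ a_j e_{σ j}`. -/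
def su4q3nor_M (σ : Equiv.Perm (Fin 4)) (a : Fin 4 → F) : Matrix (Fin 4) (Fin 4) F :=
  fun i j => if i = σ j then a j else 0

lemma su4q3nor_inv_apply (π : Equiv.Perm (Fin 4)) (j : Fin 4) : π⁻¹ (π j) = j :=
  Equiv.Perm.inv_eq_iff_eq.mpr rfl

lemma su4q3nor_M_mul (σ τ : Equiv.Perm (Fin 4)) (a b : Fin 4 → F) :
    su4q3nor_M σ a * su4q3nor_M τ b = su4q3nor_M (σ * τ) (fun j => a (τ j) * b j) := by
  ext i j
  simp only [Matrix.mul_apply, su4q3nor_M, Equiv.Perm.mul_apply]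
  rw [Finset.sum_eq_single (τ j)]
  · by_cases h : i = σ (τ j) <;> simp [h]
  · intro k _ hk
    simp [hk]
  · simp

lemma su4q3nor_M_diag (c : Fin 4 → F) : su4q3nor_M 1 c = Matrix.diagonal c := by
  ext i j
  simp only [su4q3nor_M, Equiv.Perm.one_apply, Matrix.diagonal_apply]
  by_cases h : i = j
  · subst h; simp
  · simp [h]

lemma su4q3nor_M_one : su4q3nor_M 1 (fun _ => (1 : F)) = 1 := by
  rw [su4q3nor_M_diag]
  exact Matrix.diagonal_one

/-- The unit with a monomial matrix. -/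
def su4q3nor_U (σ : Equiv.Perm (Fin 4)) (a : Fin 4 → F) (ha : ∀ j, a j ≠ 0) : GL (Fin 4) F :=
  ⟨su4q3nor_M σ a, su4q3nor_M σ⁻¹ (fun j => (a (σ⁻¹ j))⁻¹), by
    rw [su4q3nor_M_mul, mul_inv_cancel, ← su4q3nor_M_one]
    congr 1
    funext j
    exact mul_inv_cancel₀ (ha _), by
    rw [su4q3nor_M_mul, inv_mul_cancel, ← su4q3nor_M_one]
    congr 1
    funext j
    simp only [su4q3nor_inv_apply]
    exact inv_mul_cancel₀ (ha _)⟩

lemma su4q3nor_U_val (σ : Equiv.Perm (Fin 4)) (a : Fin 4 → F) (ha : ∀ j, a j ≠ 0) :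
    (su4q3nor_U σ a ha).1 = su4q3nor_M σ a := rfl

def su4q3nor_t1 : Equiv.Perm (Fin 4) := Equiv.swap 0 2 * Equiv.swap 1 3

def su4q3nor_t2 : Equiv.Perm (Fin 4) := Equiv.swap 0 1 * Equiv.swap 2 3

def su4q3nor_V4 (τ : Equiv.Perm (Fin 4)) : Prop :=
  τ = 1 ∨ τ = su4q3nor_t1 ∨ τ = su4q3nor_t2 ∨ τ = su4q3nor_t1 * su4q3nor_t2

lemma su4q3nor_V4_conj : ∀ σ τ : Equiv.Perm (Fin 4), su4q3nor_V4 τ →
    su4q3nor_V4 (σ * τ * σ⁻¹) := by
  unfold su4q3nor_V4 su4q3nor_t1 su4q3nor_t2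
  decide

lemma su4q3nor_t1_apply : su4q3nor_t1 0 = 2 ∧ su4q3nor_t1 1 = 3 ∧ su4q3nor_t1 2 = 0 ∧
    su4q3nor_t1 3 = 1 := by
  unfold su4q3nor_t1
  decide

lemma su4q3nor_t2_apply : su4q3nor_t2 0 = 1 ∧ su4q3nor_t2 1 = 0 ∧ su4q3nor_t2 2 = 3 ∧
    su4q3nor_t2 3 = 2 := by
  unfold su4q3nor_t2
  decide

lemma su4q3nor_gen_i (ι : F) :
    ι • (1 : Matrix (Fin 4) (Fin 4) F) = su4q3nor_M 1 (fun _ => ι) := by
  rw [su4q3nor_M_diag, Matrix.smul_one_eq_diagonal]

lemma su4q3nor_gen_x1 :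
    (!![0, 0, 1, 0; 0, 0, 0, 1; 1, 0, 0, 0; 0, 1, 0, 0] : Matrix (Fin 4) (Fin 4) F)
      = su4q3nor_M su4q3nor_t1 (fun _ => 1) := by
  obtain ⟨h0, h1, h2, h3⟩ := su4q3nor_t1_apply
  ext i j
  fin_cases i <;> fin_cases j <;> simp [su4q3nor_M, h0, h1, h2, h3]

lemma su4q3nor_gen_x2 :
    (!![0, 1, 0, 0; 1, 0, 0, 0; 0, 0, 0, 1; 0, 0, 1, 0] : Matrix (Fin 4) (Fin 4) F)
      = su4q3nor_M su4q3nor_t2 (fun _ => 1) := by
  obtain ⟨h0, h1, h2, h3⟩ := su4q3nor_t2_apply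
  ext i j
  fin_cases i <;> fin_cases j <;> simp [su4q3nor_M, h0, h1, h2, h3]

lemma su4q3nor_i_ne (ι : F) (hι : ι ^ 2 = -1) : ι ≠ 0 := by
  rintro rfl
  have h0 : (0 : F) = -1 := by simp at hι
  have h1 : (1 : F) = 0 := by linear_combination h0
  exact one_ne_zero h1

lemma su4q3nor_mem_scalar (ι : F) (hι : ι ^ 2 = -1) (y : GL (Fin 4) F) (u : F)
    (hu : u ^ 4 = 1) (hy : y.1 = su4q3nor_M 1 (fun _ => u)) : y ∈ su4Pauli ι := by
  have hz : su4q3nor_U 1 (fun _ => ι) (fun _ => su4q3nor_i_ne ι hι) ∈ su4Pauli ι :=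
    Subgroup.subset_closure (Or.inl (su4q3nor_gen_i ι).symm)
  have hk : ∃ k : ℕ, u = ι ^ k := by
    have h : (u - 1) * (u + 1) * (u - ι) * (u + ι) = 0 := by
      linear_combination hu - (u ^ 2 - 1) * hι
    rcases mul_eq_zero.mp h with h | h
    · rcases mul_eq_zero.mp h with h | h
      · rcases mul_eq_zero.mp h with h | h
        · exact ⟨0, by rw [pow_zero]; linear_combination h⟩
        · exact ⟨2, by rw [hι]; linear_combination h⟩
      · exact ⟨1, by rw [pow_one]; linear_combination h⟩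
    · exact ⟨3, by linear_combination h - ι * hι⟩
  obtain ⟨k, rfl⟩ := hk
  have hyk : y = su4q3nor_U 1 (fun _ => ι) (fun _ => su4q3nor_i_ne ι hι) ^ k := by
    apply Units.ext
    rw [hy, Units.val_pow_eq_pow_val, su4q3nor_U_val, ← su4q3nor_gen_i, ← su4q3nor_gen_i,
      smul_pow, one_pow]
  rw [hyk]
  exact Subgroup.pow_mem _ hz k

lemma su4q3nor_pm (r : F) (h : r ^ 2 = 1) : r = 1 ∨ r = -1 := by
  have h' : (r - 1) * (r + 1) = 0 := by linear_combination h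
  rcases mul_eq_zero.mp h' with h1 | h1
  · exact Or.inl (by linear_combination h1)
  · exact Or.inr (by linear_combination h1)

lemma su4q3nor_mem_diag (ι : F) (y : GL (Fin 4) F) (r : Fin 4 → F)
    (h0 : r 0 = 1) (hr : ∀ j, r j ^ 2 = 1) (hp : r 0 * r 1 * r 2 * r 3 = 1)
    (hy : y.1 = su4q3nor_M 1 r) : y ∈ su4Pauli ι := by
  have h3 : r 3 = r 1 * r 2 := by
    rw [h0] at hp
    linear_combination (r 1 * r 2) * hp - r 3 * r 2 ^ 2 * hr 1 - r 3 * hr 2
  have hz1 : su4q3nor_U 1 (![1, 1, -1, -1] : Fin 4 → F)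
      (fun j => by fin_cases j <;> simp) ∈ su4Pauli ι :=
    Subgroup.subset_closure (Or.inr (Or.inl (su4q3nor_M_diag _)))
  have hz2 : su4q3nor_U 1 (![1, -1, 1, -1] : Fin 4 → F)
      (fun j => by fin_cases j <;> simp) ∈ su4Pauli ι :=
    Subgroup.subset_closure (Or.inr (Or.inr (Or.inl (su4q3nor_M_diag _))))
  rcases su4q3nor_pm _ (hr 1) with h1 | h1 <;> rcases su4q3nor_pm _ (hr 2) with h2 | h2
  · have : y = 1 := by
      apply Units.ext
      rw [hy, Units.val_one, ← su4q3nor_M_one]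
      congr 1
      funext j
      fin_cases j <;> simp [h0, h1, h2, h3]
    rw [this]
    exact Subgroup.one_mem _
  · have : y = su4q3nor_U 1 (![1, 1, -1, -1] : Fin 4 → F) (fun j => by fin_cases j <;> simp) := by
      apply Units.ext
      rw [hy, su4q3nor_U_val]
      congr 1
      funext j
      fin_cases j <;> simp [h0, h1, h2, h3]
    rw [this]
    exact hz1
  · have : y = su4q3nor_U 1 (![1, -1, 1, -1] : Fin 4 → F) (fun j => by fin_cases j <;> simp) := by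
      apply Units.ext
      rw [hy, su4q3nor_U_val]
      congr 1
      funext j
      fin_cases j <;> simp [h0, h1, h2, h3]
    rw [this]
    exact hz2
  · have : y = su4q3nor_U 1 (![1, 1, -1, -1] : Fin 4 → F) (fun j => by fin_cases j <;> simp)
        * su4q3nor_U 1 (![1, -1, 1, -1] : Fin 4 → F) (fun j => by fin_cases j <;> simp) := by
      apply Units.ext
      rw [hy, Units.val_mul, su4q3nor_U_val, su4q3nor_U_val, su4q3nor_M_mul, mul_one]
      congr 1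
      funext j
      fin_cases j <;> simp [h0, h1, h2, h3]
    rw [this]
    exact Subgroup.mul_mem _ hz1 hz2

lemma su4q3nor_mem_perm (ι : F) (y : GL (Fin 4) F) (τ : Equiv.Perm (Fin 4))
    (hτ : su4q3nor_V4 τ) (hy : y.1 = su4q3nor_M τ (fun _ => 1)) : y ∈ su4Pauli ι := by
  have hx1 : su4q3nor_U su4q3nor_t1 (fun _ => (1 : F)) (fun _ => one_ne_zero) ∈ su4Pauli ι :=
    Subgroup.subset_closure (Or.inr (Or.inr (Or.inr (Or.inl su4q3nor_gen_x1.symm))))
  have hx2 : su4q3nor_U su4q3nor_t2 (fun _ => (1 : F)) (fun _ => one_ne_zero) ∈ su4Pauli ι :=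
    Subgroup.subset_closure (Or.inr (Or.inr (Or.inr (Or.inr su4q3nor_gen_x2.symm))))
  rcases hτ with rfl | rfl | rfl | rfl
  · have : y = 1 := Units.ext (by rw [hy, su4q3nor_M_one]; rfl)
    rw [this]
    exact Subgroup.one_mem _
  · have : y = su4q3nor_U su4q3nor_t1 (fun _ => (1 : F)) (fun _ => one_ne_zero) :=
      Units.ext hy
    rw [this]
    exact hx1
  · have : y = su4q3nor_U su4q3nor_t2 (fun _ => (1 : F)) (fun _ => one_ne_zero) :=
      Units.ext hy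
    rw [this]
    exact hx2
  · have : y = su4q3nor_U su4q3nor_t1 (fun _ => (1 : F)) (fun _ => one_ne_zero)
        * su4q3nor_U su4q3nor_t2 (fun _ => (1 : F)) (fun _ => one_ne_zero) := by
      apply Units.ext
      rw [hy, Units.val_mul, su4q3nor_U_val, su4q3nor_U_val, su4q3nor_M_mul]
      congr 1
      funext j
      ring
    rw [this]
    exact Subgroup.mul_mem _ hx1 hx2

lemma su4q3nor_mem (ι : F) (hι : ι ^ 2 = -1) (y : GL (Fin 4) F) (τ : Equiv.Perm (Fin 4))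
    (c : Fin 4 → F) (hτ : su4q3nor_V4 τ) (s : F) (hs : s ^ 2 = 1) (hc : ∀ k, c k ^ 2 = s)
    (hp : ∏ k, c k = 1) (hy : y.1 = su4q3nor_M τ c) : y ∈ su4Pauli ι := by
  rw [Fin.prod_univ_four] at hp
  have hc0 : c 0 ^ 4 = 1 := by
    have h := hc 0
    calc c 0 ^ 4 = (c 0 ^ 2) ^ 2 := by ring
      _ = 1 := by rw [h, hs]
  have hc0ne : c 0 ≠ 0 := by
    intro h
    rw [h] at hc0
    simp at hc0
  obtain ⟨r, hr⟩ : ∃ r : Fin 4 → F, ∀ j, r j = c j * c 0 ^ 3 := ⟨_, fun _ => rfl⟩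
  have hr2 : ∀ j, r j ^ 2 = 1 := fun j => by
    have h1 := hc j
    have h2 := hc 0
    rw [hr]
    calc (c j * c 0 ^ 3) ^ 2 = c j ^ 2 * (c 0 ^ 2) ^ 3 := by ring
      _ = (s ^ 2) ^ 2 := by rw [h1, h2]; ring
      _ = 1 := by rw [hs]; ring
  have hrne : ∀ j, r j ≠ 0 := fun j h => by
    have := hr2 j
    rw [h] at this
    simp at this
  have hyeq : y = su4q3nor_U τ (fun _ => (1 : F)) (fun _ => one_ne_zero)
      * su4q3nor_U 1 (fun _ => c 0) (fun _ => hc0ne) * su4q3nor_U 1 r hrne := by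
    apply Units.ext
    rw [hy, Units.val_mul, Units.val_mul, su4q3nor_U_val, su4q3nor_U_val, su4q3nor_U_val,
      su4q3nor_M_mul, su4q3nor_M_mul, mul_one, mul_one]
    congr 1
    funext j
    simp only [one_mul]
    rw [hr]
    linear_combination (-(c j)) * hc0
  rw [hyeq]
  refine Subgroup.mul_mem _ (Subgroup.mul_mem _ (su4q3nor_mem_perm ι _ τ hτ rfl)
    (su4q3nor_mem_scalar ι hι _ (c 0) hc0 rfl)) (su4q3nor_mem_diag ι _ r ?_ hr2 ?_ rfl)
  · rw [hr]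
    linear_combination hc0
  · rw [hr, hr, hr, hr]
    linear_combination c 0 ^ 12 * hp + (c 0 ^ 8 + c 0 ^ 4 + 1) * hc0

lemma su4q3nor_det_sq (π : Equiv.Perm (Fin 4)) :
    (su4q3nor_M π (fun _ => (1 : F))).det ^ 2 = 1 := by
  have hT : (su4q3nor_M π (fun _ => (1 : F)))ᵀ = su4q3nor_M π⁻¹ (fun _ => 1) := by
    ext i j
    simp only [Matrix.transpose_apply, su4q3nor_M]
    have h : (j = π i) ↔ (i = π⁻¹ j) := by
      rw [Equiv.Perm.eq_inv_iff_eq]
      exact eq_comm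
    simp only [h]
  have h1 : su4q3nor_M π (fun _ => (1 : F)) * su4q3nor_M π⁻¹ (fun _ => 1) = 1 := by
    rw [su4q3nor_M_mul, mul_inv_cancel, ← su4q3nor_M_one]
    congr 1
    funext j
    ring
  have h2 := congrArg Matrix.det h1
  rw [Matrix.det_mul, ← hT, Matrix.det_transpose, Matrix.det_one] at h2
  rw [sq]
  exact h2

lemma su4q3nor_conj (x g y : GL (Fin 4) F) (π τ : Equiv.Perm (Fin 4)) (a b : Fin 4 → F)
    (hx : x.1 = su4q3nor_M π a) (ha : ∀ j, a j ^ 4 = 1) (hg : g.1 = su4q3nor_M τ b)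
    (hy : y = x * g * x⁻¹) :
    y.1 = su4q3nor_M (π * τ * π⁻¹)
      (fun k => a (τ (π⁻¹ k)) * b (π⁻¹ k) * a (π⁻¹ k) ^ 3) := by
  have h1 : y.1 * x.1 = x.1 * g.1 := by
    rw [hy, ← Units.val_mul, inv_mul_cancel_right, Units.val_mul]
  have h2 : su4q3nor_M (π * τ * π⁻¹)
      (fun k => a (τ (π⁻¹ k)) * b (π⁻¹ k) * a (π⁻¹ k) ^ 3) * x.1 = x.1 * g.1 := by
    rw [hx, hg, su4q3nor_M_mul, su4q3nor_M_mul, inv_mul_cancel_right]
    congr 1
    funext j
    simp only [su4q3nor_inv_apply]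
    linear_combination (a (τ j) * b j) * ha j
  have h3 : ∀ A : Matrix (Fin 4) (Fin 4) F, A = A * x.1 * (x⁻¹).1 := by
    intro A
    rw [mul_assoc, ← Units.val_mul, mul_inv_cancel, Units.val_one, mul_one]
  rw [h3 y.1, h1, ← h2, ← h3]

lemma su4q3nor_prod (π τ : Equiv.Perm (Fin 4)) (a b : Fin 4 → F)
    (hP : (∏ j, a j) ^ 2 = 1) :
    ∏ k, (a (τ (π⁻¹ k)) * b (π⁻¹ k) * a (π⁻¹ k) ^ 3) = ∏ m, b m := by
  rw [Equiv.prod_comp π⁻¹ (fun m => a (τ m) * b m * a m ^ 3), Finset.prod_mul_distrib,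
    Finset.prod_mul_distrib, Finset.prod_pow, Equiv.prod_comp τ a]
  linear_combination ((∏ m, b m) * ((∏ j, a j) ^ 2 + 1)) * hP

lemma su4q3nor_gen_conj (ι : F) (hι : ι ^ 2 = -1) (x : GL (Fin 4) F)
    (π : Equiv.Perm (Fin 4)) (a : Fin 4 → F) (hx : x.1 = su4q3nor_M π a)
    (ha : ∀ j, a j ^ 4 = 1) (hP : (∏ j, a j) ^ 2 = 1) (g : GL (Fin 4) F)
    (hg : g ∈ su4PauliGens ι) : x * g * x⁻¹ ∈ su4Pauli ι := by
  have hP' : (a 0 * a 1 * a 2 * a 3) ^ 2 = 1 := by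
    rw [← Fin.prod_univ_four]
    exact hP
  rcases hg with hg | hg | hg | hg | hg
  · have hc := su4q3nor_conj x g _ π 1 a (fun _ => ι) hx ha (by rw [hg, su4q3nor_gen_i]) rfl
    refine su4q3nor_mem ι hι _ _ _ (su4q3nor_V4_conj π 1 (Or.inl rfl)) (-1) (by ring)
      (fun k => ?_) ?_ hc
    · simp only [Equiv.Perm.one_apply]
      linear_combination (a (π⁻¹ k)) ^ 8 * hι - ((a (π⁻¹ k)) ^ 4 + 1) * ha (π⁻¹ k)
    · refine (su4q3nor_prod π 1 a (fun _ => ι) hP).trans ?_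
      rw [Finset.prod_const, Finset.card_univ, Fintype.card_fin]
      linear_combination (ι ^ 2 - 1) * hι
  · have hb : ∀ m, (![1, 1, -1, -1] : Fin 4 → F) m ^ 2 = 1 := by
      intro m
      fin_cases m <;> simp
    have hc := su4q3nor_conj x g _ π 1 a ![1, 1, -1, -1] hx ha
      (by rw [hg, su4q3nor_M_diag]) rfl
    refine su4q3nor_mem ι hι _ _ _ (su4q3nor_V4_conj π 1 (Or.inl rfl)) 1 (by ring)
      (fun k => ?_) ?_ hc
    · simp only [Equiv.Perm.one_apply]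
      linear_combination (a (π⁻¹ k)) ^ 8 * hb (π⁻¹ k) + ((a (π⁻¹ k)) ^ 4 + 1) * ha (π⁻¹ k)
    · rw [su4q3nor_prod π 1 a _ hP, Fin.prod_univ_four]
      simp
  · have hb : ∀ m, (![1, -1, 1, -1] : Fin 4 → F) m ^ 2 = 1 := by
      intro m
      fin_cases m <;> simp
    have hc := su4q3nor_conj x g _ π 1 a ![1, -1, 1, -1] hx ha
      (by rw [hg, su4q3nor_M_diag]) rfl
    refine su4q3nor_mem ι hι _ _ _ (su4q3nor_V4_conj π 1 (Or.inl rfl)) 1 (by ring)
      (fun k => ?_) ?_ hc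
    · simp only [Equiv.Perm.one_apply]
      linear_combination (a (π⁻¹ k)) ^ 8 * hb (π⁻¹ k) + ((a (π⁻¹ k)) ^ 4 + 1) * ha (π⁻¹ k)
    · rw [su4q3nor_prod π 1 a _ hP, Fin.prod_univ_four]
      simp
  · obtain ⟨t0, t1, t2, t3⟩ := su4q3nor_t1_apply
    have hc := su4q3nor_conj x g _ π su4q3nor_t1 a (fun _ => 1) hx ha
      (by rw [hg, su4q3nor_gen_x1]) rfl
    have hsq : ∀ m, (a (su4q3nor_t1 m) * 1 * a m ^ 3) ^ 2 = (a 0 * a 2) ^ 2 := by
      intro m
      fin_cases m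
      · simp only [Fin.zero_eta, t0]
        linear_combination (a 0 ^ 2 * a 2 ^ 2) * ha 0
      · simp only [Fin.mk_one, t1]
        linear_combination (a 3 ^ 2 * a 1 ^ 2) * ha 1
          - a 1 ^ 2 * a 3 ^ 2 * (a 2 ^ 4 * ha 0 + ha 2) + a 0 ^ 2 * a 2 ^ 2 * hP'
      · simp only [Fin.reduceFinMk, t2]
        linear_combination (a 0 ^ 2 * a 2 ^ 2) * ha 2
      · simp only [Fin.reduceFinMk, t3]
        linear_combination (a 1 ^ 2 * a 3 ^ 2) * ha 3
          - a 1 ^ 2 * a 3 ^ 2 * (a 2 ^ 4 * ha 0 + ha 2) + a 0 ^ 2 * a 2 ^ 2 * hP'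
    refine su4q3nor_mem ι hι _ _ _ (su4q3nor_V4_conj π _ (Or.inr (Or.inl rfl)))
      ((a 0 * a 2) ^ 2) (by linear_combination (a 2 ^ 4) * ha 0 + ha 2)
      (fun k => hsq (π⁻¹ k)) ?_ hc
    refine (su4q3nor_prod π _ a (fun _ => 1) hP).trans ?_
    simp
  · obtain ⟨t0, t1, t2, t3⟩ := su4q3nor_t2_apply
    have hc := su4q3nor_conj x g _ π su4q3nor_t2 a (fun _ => 1) hx ha
      (by rw [hg, su4q3nor_gen_x2]) rfl
    have hsq : ∀ m, (a (su4q3nor_t2 m) * 1 * a m ^ 3) ^ 2 = (a 0 * a 1) ^ 2 := by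
      intro m
      fin_cases m
      · simp only [Fin.zero_eta, t0]
        linear_combination (a 0 ^ 2 * a 1 ^ 2) * ha 0
      · simp only [Fin.mk_one, t1]
        linear_combination (a 0 ^ 2 * a 1 ^ 2) * ha 1
      · simp only [Fin.reduceFinMk, t2]
        linear_combination (a 3 ^ 2 * a 2 ^ 2) * ha 2
          - a 2 ^ 2 * a 3 ^ 2 * (a 1 ^ 4 * ha 0 + ha 1) + a 0 ^ 2 * a 1 ^ 2 * hP'
      · simp only [Fin.reduceFinMk, t3]
        linear_combination (a 2 ^ 2 * a 3 ^ 2) * ha 3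
          - a 2 ^ 2 * a 3 ^ 2 * (a 1 ^ 4 * ha 0 + ha 1) + a 0 ^ 2 * a 1 ^ 2 * hP'
    refine su4q3nor_mem ι hι _ _ _ (su4q3nor_V4_conj π _ (Or.inr (Or.inr (Or.inl rfl))))
      ((a 0 * a 1) ^ 2) (by linear_combination (a 1 ^ 4) * ha 0 + ha 1)
      (fun k => hsq (π⁻¹ k)) ?_ hc
    refine (su4q3nor_prod π _ a (fun _ => 1) hP).trans ?_
    simp

end Mono

section Main

variable {F : Type*} [Field F] [Fintype F] {q : ℕ}

lemma su4q3nor_struct (hq : q = 3) (x : GL (Fin 4) F)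
    (hx : x ∈ decompositionStabilizer
        (fun j : Fin 4 => Submodule.span F {(Pi.single j 1 : Fin 4 → F)}) ⊓
      (Cfsg.GU 4 F q ⊓ specialLinear (Fin 4) F)) :
    ∃ (π : Equiv.Perm (Fin 4)) (a : Fin 4 → F), x.1 = su4q3nor_M π a ∧
      (∀ j, a j ^ 4 = 1) ∧ (∏ j, a j) ^ 2 = 1 := by
  subst hq
  obtain ⟨⟨π, hπ⟩, hU, hS⟩ := hx
  have hcol : ∀ j, ∃ aj : F, x.1 *ᵥ (Pi.single j 1)
      = aj • (Pi.single (π j) 1 : Fin 4 → F) := by
    intro j
    have h1 : x.1 *ᵥ (Pi.single j 1) ∈ Submodule.span F {(Pi.single (π j) 1 : Fin 4 → F)} := by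
      have hπj : Submodule.map (Matrix.toLin' x.1)
          (Submodule.span F {(Pi.single j 1 : Fin 4 → F)})
          = Submodule.span F {(Pi.single (π j) 1 : Fin 4 → F)} := hπ j
      rw [← hπj]
      exact Submodule.mem_map.mpr ⟨_, Submodule.mem_span_singleton_self _,
        Matrix.toLin'_apply _ _⟩
    obtain ⟨aj, haj⟩ := Submodule.mem_span_singleton.mp h1
    exact ⟨aj, haj.symm⟩
  choose a ha using hcol
  have hM : x.1 = su4q3nor_M π a := by
    ext i j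
    have h := congrFun (ha j) i
    rw [Matrix.mulVec_single_one] at h
    simp only [Pi.smul_apply, Pi.single_apply, smul_eq_mul, mul_ite, mul_one, mul_zero] at h
    simpa [su4q3nor_M] using h
  have h4 : ∀ j, a j ^ 4 = 1 := by
    intro j
    have h := hU (Pi.single j 1) (Pi.single j 1)
    change Cfsg.hermForm 4 F 3 (x.1 *ᵥ Pi.single j 1) (x.1 *ᵥ Pi.single j 1) = _ at h
    rw [ha j] at h
    simp only [Cfsg.hermForm, Pi.smul_apply, Pi.single_apply, smul_eq_mul, mul_ite, mul_one,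
      mul_zero, ite_pow, ne_eq, OfNat.ofNat_ne_zero, not_false_eq_true, zero_pow, ite_mul,
      zero_mul, one_pow, Finset.sum_ite_eq', Finset.mem_univ, if_true] at h
    rw [← h]
    ring
  refine ⟨π, a, hM, h4, ?_⟩
  have hdet : x.1.det = 1 := by
    have h := MonoidHom.mem_ker.mp hS
    have h' := congrArg Units.val h
    simpa using h'
  have hfac : x.1 = su4q3nor_M π (fun _ => 1) * Matrix.diagonal a := by
    rw [hM, ← su4q3nor_M_diag, su4q3nor_M_mul, mul_one]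
    congr 1
    funext j
    simp
  rw [hfac, Matrix.det_mul, Matrix.det_diagonal] at hdet
  have h1 := su4q3nor_det_sq (F := F) π
  calc (∏ j, a j) ^ 2 = (su4q3nor_M π (fun _ => (1 : F))).det ^ 2 * (∏ j, a j) ^ 2 := by
        rw [h1, one_mul]
    _ = ((su4q3nor_M π (fun _ => (1 : F))).det * ∏ j, a j) ^ 2 := by ring
    _ = 1 := by rw [hdet, one_pow]

/-- Q3NOR: the unimodular unitary monomial group of the standard frame normalises the Pauli
group (`q = 3`). -/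
theorem Q3NOR (hF : Fintype.card F = q ^ 2) (hq : q = 3) (ι : F) (hι : ι ^ 2 = -1) :
    decompositionStabilizer (fun j : Fin 4 => Submodule.span F {(Pi.single j 1 : Fin 4 → F)}) ⊓
      (Cfsg.GU 4 F q ⊓ specialLinear (Fin 4) F) ≤ subgroupNormalizer (su4Pauli ι) := by
  have key : ∀ x ∈ decompositionStabilizer
        (fun j : Fin 4 => Submodule.span F {(Pi.single j 1 : Fin 4 → F)}) ⊓
      (Cfsg.GU 4 F q ⊓ specialLinear (Fin 4) F), ∀ h ∈ su4Pauli ι,
      x * h * x⁻¹ ∈ su4Pauli ι := by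
    intro x hx h hh
    obtain ⟨π, a, hxM, ha, hP⟩ := su4q3nor_struct hq x hx
    have hle : su4Pauli ι ≤ (su4Pauli ι).comap (MulAut.conj x).toMonoidHom := by
      apply (Subgroup.closure_le _).mpr
      intro g hg
      exact su4q3nor_gen_conj ι hι x π a hxM ha hP g hg
    exact hle hh
  intro x hx
  rw [subgroupNormalizer, Subgroup.mem_normalizer_iff]
  intro h
  constructor
  · exact key x hx h
  · intro hh
    have h1 := key x⁻¹ (Subgroup.inv_mem _ hx) _ hh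
    have h2 : x⁻¹ * (x * h * x⁻¹) * x⁻¹⁻¹ = h := by group
    rw [h2] at h1
    exact h1

end Main

end Cfsg.Agent.Lib.Helper40.SU4Q3NOR
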