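import Mathlib
import Cfsg.Agent.Lib.Helper4.TPDefs

/-!
# Piece TP-UC (helper40): under `A1Prop` the `r`-elements of `Cen g` form a subgroup central in
`Cen g`
-/

set_option autoImplicit false

namespace Cfsg.Agent.Lib.Helper4.TP

universe u

theorem uc : UCStmt.{u} := by
  intro G _ _ p r hp hr hrp hA1 g hg
  have hcomm : ∀ w : G, w ∈ Cen g → (∃ k, orderOf w = r ^ k) → ∀ c ∈ Cen g, c * w = w * c := by
    rintro w hw ⟨k, hk⟩ c hc
    have hpreg : PReg p w := by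
      unfold PReg
      rw [hk]
      exact Nat.Coprime.pow_left k ((Nat.coprime_primes hr hp).2 hrp)
    have h1 := hA1 g w hg hpreg hw hc
    rw [Subgroup.mem_centralizer_iff] at h1
    exact (h1 w (Set.mem_singleton w)).symm
  refine ⟨{ carrier := {w | w ∈ Cen g ∧ ∃ k, orderOf w = r ^ k}
            mul_mem' := ?_
            one_mem' := ?_
            inv_mem' := ?_ }, ?_, ?_⟩
  · rintro a b ⟨ha, ka, hka⟩ ⟨hb, kb, hkb⟩
    refine ⟨mul_mem ha hb, ?_⟩
    have hab : Commute a b := hcomm b hb ⟨kb, hkb⟩ a ha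
    have h1 := hab.orderOf_mul_dvd_lcm
    rw [hka, hkb] at h1
    have h2 : Nat.lcm (r ^ ka) (r ^ kb) ∣ r ^ max ka kb :=
      Nat.lcm_dvd (pow_dvd_pow r (le_max_left _ _)) (pow_dvd_pow r (le_max_right _ _))
    obtain ⟨j, -, hj⟩ := (Nat.dvd_prime_pow hr).1 (h1.trans h2)
    exact ⟨j, hj⟩
  · exact ⟨one_mem _, 0, by simp⟩
  · rintro a ⟨ha, ka, hka⟩
    exact ⟨inv_mem ha, ka, by rw [orderOf_inv, hka]⟩
  · intro w
    exact Iff.rfl
  · rintro w ⟨hw, hk⟩ c hc
    exact hcomm w hw hk c hc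

end Cfsg.Agent.Lib.Helper4.TP
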