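import Mathlib
import Cfsg.Prelude.Def_GeometricClasses
import Cfsg.Prelude.Def_LieClassical
import Cfsg.Agent.Lib.Helper71.Asch0
import Cfsg.Agent.Lib.Helper71.Asch5
import Cfsg.Agent.Lib.Helper71.AschMain
import Cfsg.Agent.Lib.Helper65.ASF
import Cfsg.Agent.Lib.Helper65.ASSN

/-!
# Project U9 (helper44), piece SY9 (helper40)

The symplectic-type branch in dimension 9: adaptation of `Helper29.SUPU5` (`U5`) with `n = 9`,
`r = 3`.
-/

set_option autoImplicit false

namespace Cfsg.Agent.Lib.Helper44.U9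

open Matrix Cfsg.Geo Cfsg.Agent.Lib.Helper71.Asch
open scoped Kronecker
open Cfsg.Agent.Lib.Helper82.ASSA (SA)
open Cfsg.Agent.Lib.Helper28.ASSB (SB)
open Cfsg.Agent.Lib.Helper66.ASSC (SC)
open Cfsg.Agent.Lib.Helper65.ASSE (SE)
open Cfsg.Agent.Lib.Helper12.ASSF (SF SR)
open Cfsg.Agent.Lib.Helper75.ASSM (SM)
open Cfsg.Agent.Lib.Helper71.AschMain (SLmain)

variable {n : ℕ} {F : Type*} [Field F] [Fintype F] {q : ℕ}

/-- In dimension 9 the prime `r` of the symplectic-type branch is 3. -/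
theorem SY9_r_eq (H L : Subgroup (GL (Fin 9) F)) (h : SymT H L) (r : ℕ)
    (hr : r.Prime) (hp : ∀ x ∈ L, ∃ j : ℕ, x ^ (r ^ j) = 1) : r = 3 := by
  classical
  obtain ⟨x, hxL, y, hyL, hne⟩ := Cfsg.Agent.Lib.Helper65.ASF.not_abelian h
  obtain ⟨c, hc⟩ : ∃ c : GL (Fin 9) F, c = x * y * x⁻¹ * y⁻¹ := ⟨_, rfl⟩
  have hcs : c ∈ scalars (Fin 9) F := by
    rw [hc]; exact Cfsg.Agent.Lib.Helper65.ASF.comm_mem_scalars h hxL hyL
  have hcL : c ∈ L := by
    rw [hc]
    exact L.mul_mem (L.mul_mem (L.mul_mem hxL hyL) (L.inv_mem hxL)) (L.inv_mem hyL)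
  have hc1 : c ≠ 1 := by
    intro h1
    apply hne
    rw [hc] at h1
    calc x * y = (x * y * x⁻¹ * y⁻¹) * (y * x) := by group
      _ = y * x := by rw [h1, one_mul]
  obtain ⟨ζ, hζ⟩ := (mem_scalars_iff c).1 hcs
  have hζ1 : (ζ : F) ≠ 1 := by
    intro h1
    apply hc1
    apply Units.ext
    rw [hζ, h1, one_smul, Units.val_one]
  have hdet : (c : Matrix (Fin 9) (Fin 9) F).det = 1 := by
    rw [hc, Units.val_mul, Units.val_mul, Units.val_mul, Matrix.det_mul, Matrix.det_mul,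
      Matrix.det_mul]
    have hx1 : (x : Matrix (Fin 9) (Fin 9) F).det *
        ((x⁻¹ : GL (Fin 9) F) : Matrix (Fin 9) (Fin 9) F).det = 1 := by
      rw [← Matrix.det_mul, ← Units.val_mul, mul_inv_cancel, Units.val_one, Matrix.det_one]
    have hy1 : (y : Matrix (Fin 9) (Fin 9) F).det *
        ((y⁻¹ : GL (Fin 9) F) : Matrix (Fin 9) (Fin 9) F).det = 1 := by
      rw [← Matrix.det_mul, ← Units.val_mul, mul_inv_cancel, Units.val_one, Matrix.det_one]
    linear_combination ((y : Matrix (Fin 9) (Fin 9) F).det *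
      ((y⁻¹ : GL (Fin 9) F) : Matrix (Fin 9) (Fin 9) F).det) * hx1 + hy1
  have hζn : (ζ : F) ^ 9 = 1 := by
    rw [hζ, Matrix.det_smul, Matrix.det_one, mul_one, Fintype.card_fin] at hdet
    exact hdet
  obtain ⟨j, hj⟩ := hp c hcL
  have hζr : (ζ : F) ^ (r ^ j) = 1 := by
    have h1 := congrArg (fun g : GL (Fin 9) F => (g : Matrix (Fin 9) (Fin 9) F)) hj
    simp only [Units.val_pow_eq_pow_val, Units.val_one] at h1
    rw [hζ, smul_pow, one_pow] at h1
    have h2 := congrFun (congrFun h1 0) 0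
    simpa using h2
  by_contra hrn
  have h3r : Nat.Coprime 3 r := (Nat.coprime_primes Nat.prime_three hr).2 (fun h => hrn h.symm)
  have h9r : Nat.Coprime 9 r := Nat.Coprime.pow_left 2 h3r
  have hcop : Nat.Coprime 9 (r ^ j) := Nat.Coprime.pow_right j h9r
  have h3 : (ζ : F) ^ Nat.gcd 9 (r ^ j) = 1 := pow_gcd_eq_one.2 ⟨hζn, hζr⟩
  rw [Nat.Coprime.gcd_eq_one hcop, pow_one] at h3
  exact hζ1 h3

/-- SY9: the symplectic-type branch in dimension 9 (no form involved). -/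
theorem SY9 (H L : Subgroup (GL (Fin 9) F)) (h : SymT H L) :
    (∃ F₁ : Subfield F, F₁ ≠ ⊤ ∧ RealisableOver F₁ (matrixSet L)) ∨
    (∃ p e : ℕ, IsSymplecticTypeGroup 3 L ∧ 3 ≠ p ∧ IsMinimalFieldFor 3 p e F ∧
      Nat.card L = 243 ∧ Nat.card (Subgroup.center L) = 3) := by
  classical
  obtain ⟨r, hr, hx⟩ := SA H L h
  have hp := SC H L h r hr hx
  have hrn : r = 3 := SY9_r_eq H L h r hr hp
  subst hrn
  have hr0 := SB (by omega) H L h 3 hr hx
  have hexp := SE (by omega) H L h 3 hr hx hp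
  have hg : Nat.gcd 2 3 = 1 := by decide
  have hz : Nat.card ↥(L ⊓ scalars (Fin 9) F) = 3 := by
    rcases SF (by omega) H L h 3 hr hexp with ⟨-, hz⟩ | ⟨hr2, -⟩
    · exact hz
    · omega
  have hroot : ∃ ζ : F, IsPrimitiveRoot ζ 3 := by
    have h1 := SR (by omega) L
    rw [hz] at h1
    exact h1
  have hexpz : ∀ x ∈ L, x ^ 3 = 1 := by
    intro x hxL
    have h1 := hexp x hxL
    rw [hg, mul_one] at h1
    exact h1
  obtain ⟨hreal, hcard⟩ := SLmain (by omega) H L h 3 hr hx 3 hexpz hr0 hroot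
  rcases SM 3 hroot (by norm_num) with ⟨F₁, hF₁, hF₁z⟩ | ⟨p, e, hmin⟩
  · left
    exact ⟨F₁, hF₁, hreal F₁ hF₁z⟩
  · right
    haveI : Fact (Nat.Prime 3) := ⟨hr⟩
    have hpG : IsPGroup 3 ↥L := Cfsg.Agent.Lib.Helper65.ASSN.isPGroup_L L 3 hr hexp
    have hexpo : Monoid.exponent ↥L = 3 * Nat.gcd 2 3 := by
      have hdvd : Monoid.exponent ↥L ∣ 3 * Nat.gcd 2 3 := by
        apply Monoid.exponent_dvd_of_forall_pow_eq_one
        intro x
        apply Subtype.ext
        exact hexp x.1 x.2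
      have hne1 : Monoid.exponent ↥L ≠ 1 := by
        intro h1
        rw [Monoid.exp_eq_one_iff] at h1
        obtain ⟨x, hx', y, hy, hne⟩ := Cfsg.Agent.Lib.Helper65.ASF.not_abelian h
        apply hne
        have h2 : (⟨x, hx'⟩ : ↥L) = ⟨y, hy⟩ := Subsingleton.elim _ _
        have h3 : x = y := congrArg Subtype.val h2
        rw [h3]
      rw [hg, mul_one] at hdvd ⊢
      rcases (Nat.dvd_prime hr).1 hdvd with h1 | h1
      · exact absurd h1 hne1
      · exact h1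
    have hsymp : IsSymplecticTypeGroup 3 L :=
      { prime := hr
        pGroup := hpG
        cyclic_of_characteristic := fun A hA hAc =>
          Cfsg.Agent.Lib.Helper65.ASSN.cyclic_of_char H L h A hA hAc
        exponent_eq := hexpo }
    have hrp : 3 ≠ p := by
      intro hrp
      haveI := hmin.2.1
      apply hr0
      rw [hrp]
      exact CharP.cast_eq_zero F p
    refine ⟨p, e, hsymp, hrp, hmin, ?_, ?_⟩
    · have h9 : (3 : ℕ) * 9 ^ 2 = 243 := by norm_num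
      rw [hcard, hz, h9]
    · rw [Cfsg.Agent.Lib.Helper65.ASSN.card_center H L h, hz]

end Cfsg.Agent.Lib.Helper44.U9
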